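import Cfsg.Agent.H288.E8L.Brk
import Cfsg.Agent.H378.SmallTor_m3
import Cfsg.Agent.H720.RowsNeg_m3
import Mathlib
import Cfsg.Agent.H540.E8C.Centre
import Cfsg.Agent.ChevalleyStructure.XColumns
import Cfsg.Prelude.Def_ChevE8
import Cfsg.Agent.BpExc.AsmN_m3
import Cfsg.Agent.ChevFast.E8
import Cfsg.Agent.ChevFast.Lin
import Cfsg.Agent.FastGrp
import Cfsg.Agent.Prune
set_option linter.all false

-- part: H857/E8L/Rep_mg
section
set_option linter.all false
open scoped Cfsg.Agent.FastGrp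

-- part: H857/E8L/Rep
section
/-!
# S5921, `L₂(81)` in `E₈(3)`: the Props NT, FIX, WTS of `H288.E8L.Iface` (helper857)
-/

set_option autoImplicit false
set_option linter.unusedSectionVars false

namespace Cfsg.Agent.H857.E8L

open CoxeterSystem Cfsg Cfsg.Lie Cfsg.Lie.ChevalleyDatum
open Cfsg.Agent.ChevalleyStructure Cfsg.Agent.ChevalleyStructure.Elts Cfsg.Agent.ChevalleyStructure.CoxeterGeom
  Cfsg.Agent.ChevalleyStructure.CoxeterGeomTypes
open Cfsg.Agent.Tits.Roots Cfsg.Agent.Tits.Core Cfsg.Agent.Nodes Cfsg.Agent.Nodes.Reps Cfsg.Agent.Nodes.BNOf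
  Cfsg.Agent.Nodes.RGDChev
open Cfsg.Agent.GpExc.Field Cfsg.Agent.BpExc.TowChev Cfsg.Agent.H129.TorusChar
open Cfsg.Agent.KFacts.RgdChevCoord
open Cfsg.Agent.H942.E8Tab Cfsg.Agent.H942.E8Alc Cfsg.Agent.H942.CB Cfsg.Agent.H944.Tab Cfsg.Agent.H944.Kac
open Cfsg.Agent.H288.E8L

/-- **NT** -/
theorem nt : NT := by
  intro s t n hs ht hn
  have hWf : Finite W8 := finite_W e8T cs8
  obtain ⟨m, hm, w, g, hg, hgs, hc⟩ := Cfsg.Agent.H378.Regular.exists_form' e8T cs8 locFin8 3 hs ht.1 hn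
  rw [Cfsg.Agent.H378.Regular.MM_eq_bot e8T cs8 (fun a ha => ?_), Subgroup.mem_bot] at hm
  · rw [hm, one_mul] at hc
    subst hc
    exact ⟨w, hg⟩
  · rw [← cX_root e8T cs8 ht.1 ha]
    exact ht.2 a ha

/-- **FIX** -/
theorem fix : FIX := by
  intro g hg
  have h1 : Cfsg.Agent.BpExc.FamUntw.phi chevE8 K8 3 1 g = g := by
    apply Subtype.ext
    apply Units.ext
    rw [Cfsg.Agent.BpExc.FamUntw.phi_coe]
    have h2 : ∀ i j, mx g i j ^ 3 = mx g i j := by
      intro i j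
      have h3 : mx (frb8 g) i j = mx g i j ^ 3 := by
        show (((emb e8T.inList (frobenius K8 3) g : GK) : GL chevE8.Idx K8) : Matrix chevE8.Idx chevE8.Idx K8) i j = _
        rw [coe_emb, coe_glMap, Matrix.map_apply]
        rfl
      rw [← h3, hg]
    ext i j
    rw [Matrix.map_apply, pow_one]
    exact h2 i j
  obtain ⟨y, hy⟩ := Cfsg.Agent.H378.TorFin.fix_mem e8T (algebraMap (ZMod 3) K8) 3 (n := 1)
    (by simp) invC_E8 h1
  exact ⟨y, hy⟩

/-- the characters of the torus separate the lattice -/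
theorem exists_sep {x : Q8} (hx : x ≠ 0) : ∃ t ∈ TT chevE8 K8, cX e8T t x ≠ 1 := by
  obtain ⟨i, hi⟩ := Function.ne_iff.1 hx
  have hi' : x i ≠ 0 := hi
  obtain ⟨N, hN⟩ : ∃ N, N = 3 * (x i).natAbs + 1 := ⟨_, rfl⟩
  have hNk : ((N : ℕ) : K8) = 1 := by
    have h3 : ((3 : ℕ) : K8) = 0 := CharP.cast_eq_zero K8 3
    rw [hN, Nat.cast_add, Nat.cast_mul, h3, zero_mul, zero_add, Nat.cast_one]
  have hNne : NeZero (N : K8) := ⟨by rw [hNk]; exact one_ne_zero⟩
  obtain ⟨u, hu⟩ := HasEnoughRootsOfUnity.exists_primitiveRoot K8 N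
  have hu0 : u ≠ 0 := hu.ne_zero (by omega)
  obtain ⟨t, ht, h3⟩ := exists_cX e8T invC_E8 one_ne_zero
    (Cfsg.Agent.H720.TorusReal.isMC_zpow (k := K8) hu0 (Pi.evalAddMonoidHom (fun _ : Fin 8 => ℤ) i))
    (fun i => ⟨_, pow_one _⟩)
  refine ⟨t, ht, ?_⟩
  rw [h3]
  intro h4
  have h5 : u ^ (x i) = 1 := h4
  rw [hu.zpow_eq_one_iff_dvd] at h5
  have h6 := Int.natAbs_dvd_natAbs.2 h5
  rw [Int.natAbs_natCast] at h6
  have h7 := Nat.le_of_dvd (Int.natAbs_pos.2 hi') h6
  omega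

/-- **WTS** -/
theorem wts : WTS := by
  intro w n hn i j hij
  by_contra hne
  obtain ⟨t', ht', hx⟩ := exists_sep (sub_ne_zero.2 hne)
  apply hx
  -- `t' = n t n⁻¹`
  obtain ⟨t, htd⟩ : ∃ t, t = n⁻¹ * t' * n := ⟨_, rfl⟩
  have ht : t ∈ TT chevE8 K8 := by
    rw [htd]
    have h1 := (Subgroup.mem_normalizer_iff.1 (inv_mem hn.mem_normalizer) t').1 ht'
    rwa [inv_inv] at h1
  have e : t' = n * t * n⁻¹ := by rw [htd]; group
  have h1 : cX e8T t' (act8 w (wt j)) = cX e8T t (wt j) := by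
    rw [e]
    exact cX_rp e8T cs8 locFin8 3 hn ht (wt j)
  have h2 : mx t' * mx n = mx n * mx t := by
    show mx (t' * n) = mx (n * t)
    rw [e, inv_mul_cancel_right]
  have hd : ∀ {t : GK} (_ : t ∈ TT chevE8 K8), mx t = Matrix.diagonal (fun i => cX e8T t (wt i)) := by
    intro t ht
    have h := TT_diag' e8T ht
    show ((t : GL chevE8.Idx K8) : Matrix chevE8.Idx chevE8.Idx K8) = _
    rw [h]
    congr 1
    funext i
    rcases i with i | s
    · exact (isMC_cX e8T ht).zero.symm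
    · rfl
  have h3 := congrFun (congrFun h2 i) j
  rw [hd ht', hd ht, Matrix.diagonal_mul, Matrix.mul_diagonal, ← h1] at h3
  have h4 : cX e8T t' (wt i) = cX e8T t' (act8 w (wt j)) := by
    rw [mul_comm] at h3
    exact mul_left_cancel₀ hij h3
  have hm := isMC_cX e8T ht'
  rw [sub_eq_add_neg, hm.add, hm.neg, h4, mul_inv_cancel₀ (hm.ne_zero _)]

end Cfsg.Agent.H857.E8L
end

-- part: H845/E8L/RegNeg
section
/-!
# S5921, `L₂(81)` in `E₈(3)`: the stabiliser of an interior point of the alcove, and `-1` in the Weyl group (helper845)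

* `coweight` : a functional on the root lattice of `E₈` with values in `{-1, 0, 1}` on the roots is zero;
* `reg : REG`, `neg : NEG`.
-/

set_option autoImplicit false
set_option linter.unusedSectionVars false
set_option maxRecDepth 100000

namespace Cfsg.Agent.H845.E8L

open CoxeterSystem Cfsg Cfsg.Lie Cfsg.Lie.ChevalleyDatum
open Cfsg.Agent.ChevalleyStructure Cfsg.Agent.ChevalleyStructure.Elts Cfsg.Agent.ChevalleyStructure.CoxeterGeom
  Cfsg.Agent.ChevalleyStructure.CoxeterGeomTypes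
open Cfsg.Agent.Tits.Roots Cfsg.Agent.Tits.Core Cfsg.Agent.Nodes Cfsg.Agent.Nodes.Reps Cfsg.Agent.Nodes.BNOf
  Cfsg.Agent.Nodes.RGDChev
open Cfsg.Agent.GpExc.Field Cfsg.Agent.BpExc.TowChev Cfsg.Agent.H129.TorusChar
open Cfsg.Agent.H942.E8Tab Cfsg.Agent.H942.E8Alc Cfsg.Agent.H942.CB Cfsg.Agent.H944.Tab Cfsg.Agent.H944.Kac
open Cfsg.Agent.H288.E8L

/-! ### `-1` -/

/-- the 15th power of a Coxeter element -/
def w0w : List ℕ := (List.replicate 15 [0, 1, 2, 3, 4, 5, 6, 7]).flatten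

/-- the coordinate functionals -/
def cf (i : ℕ) : List ℤ := (List.range 8).map fun j => if i = j then 1 else 0

/-- the negative coordinate functionals -/
def cfn (i : ℕ) : List ℤ := (List.range 8).map fun j => if i = j then -1 else 0

theorem w0_lt : ∀ i ∈ w0w, i < 8 := by decide

theorem w0_act : ∀ i < 8, actW w0w (cf i) = cfn i := by decide +kernel

theorem fz_cf (i : Fin 8) (x : Fin 8 → ℤ) : fz (cf i) x = x i := by
  unfold fz
  rw [Finset.sum_eq_single i]
  · have : (cf i).getD i 0 = 1 := by fin_cases i <;> rfl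
    rw [this, one_mul]
  · intro j _ hj
    have : (cf i).getD j 0 = 0 := by
      revert hj
      revert i j
      decide
    rw [this, zero_mul]
  · intro h
    exact absurd (Finset.mem_univ i) h

theorem fz_cfn (i : Fin 8) (x : Fin 8 → ℤ) : fz (cfn i) x = -x i := by
  unfold fz
  rw [Finset.sum_eq_single i]
  · have : (cfn i).getD i 0 = -1 := by fin_cases i <;> rfl
    rw [this, neg_one_mul]
  · intro j _ hj
    have : (cfn i).getD j 0 = 0 := by
      revert hj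
      revert i j
      decide
    rw [this, zero_mul]
  · intro h
    exact absurd (Finset.mem_univ i) h

/-- **NEG** -/
theorem neg : NEG := by
  refine ⟨word w0w, fun x => ?_⟩
  funext i
  have h1 := fz_actW w0w w0_lt (c := cf i) rfl x
  rw [w0_act i i.2, fz_cfn, fz_cf] at h1
  exact h1.symm

/-! ### minuscule coweights -/

/-- enough positive roots -/
private def S8 : List (List ℕ) :=
  [[2, 3, 4, 6, 5, 4, 3, 1], [1, 2, 2, 3, 2, 1, 0, 0], [2, 3, 4, 6, 5, 4, 3, 2], [1, 0, 1, 0, 0, 0, 0, 0], [0, 0, 0, 0, 1, 1, 0, 0], [1, 1, 2, 3, 2, 1, 0, 0], [0, 0, 0, 0, 0, 0, 1, 1], [0, 0, 0, 0, 0, 1, 1, 0], [0, 0, 0, 0, 0, 1, 1, 1], [0, 0, 0, 0, 1, 1, 1, 0], [0, 0, 0, 0, 1, 1, 1, 1], [0, 0, 0, 1, 1, 0, 0, 0], [0, 0, 0, 1, 1, 1, 0, 0], [0, 0, 0, 1, 1, 1, 1, 0], [0, 0, 0, 1, 1, 1, 1, 1], [0, 0, 1, 1, 0, 0, 0, 0], [0, 0, 1, 1, 1, 0, 0, 0], [0, 0, 1, 1, 1, 1, 0, 0], [0, 0, 1, 1, 1, 1, 1, 0], [0, 0, 1, 1, 1, 1, 1, 1], [0, 1, 0, 1, 0, 0, 0, 0],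 [0, 1, 0, 1, 1, 0, 0, 0], [0, 1, 0, 1, 1, 1, 0, 0], [0, 1, 0, 1, 1, 1, 1, 0], [0, 1, 0, 1, 1, 1, 1, 1], [0, 1, 1, 1, 0, 0, 0, 0], [0, 1, 1, 1, 1, 0, 0, 0], [0, 1, 1, 1, 1, 1, 0, 0], [0, 1, 1, 1, 1, 1, 1, 0], [0, 1, 1, 1, 1, 1, 1, 1], [0, 1, 1, 2, 1, 0, 0, 0], [0, 1, 1, 2, 1, 1, 0, 0], [0, 1, 1, 2, 1, 1, 1, 0], [0, 1, 1, 2, 1, 1, 1, 1], [0, 1, 1, 2, 2, 1, 0, 0], [0, 1, 1, 2, 2, 1, 1, 0], [0, 1, 1, 2, 2, 1, 1, 1], [0, 1, 1, 2, 2, 2, 1, 0], [0, 1, 1, 2, 2, 2, 1, 1], [0, 1, 1, 2, 2, 2, 2, 1], [1, 0, 1, 1, 0, 0, 0, 0], [1, 0, 1, 1, 1, 0, 0, 0], [1, 0, 1, 1, 1, 1, 0, 0], [1, 0, 1, 1, 1, 1, 1, 0], [1, 0, 1, 1, 1, 1, 1, 1], [1, 1, 1, 1, 0, 0, 0, 0], [1, 1, 1, 1, 1, 0, 0, 0], [1, 1, 1, 1, 1, 1, 0, 0], [1, 1, 1, 1, 1, 1, 1, 0], [1, 1, 1, 1, 1, 1, 1, 1], [1, 1, 1, 2, 1, 0, 0, 0], [1, 1, 1, 2, 1, 1, 0, 0], [1, 1, 1, 2, 1, 1, 1, 0], [1, 1, 1, 2, 1, 1, 1, 1], [1, 1, 1, 2, 2, 1, 0, 0], [1, 1, 1, 2, 2, 1, 1, 0], [1, 1, 1, 2, 2, 1, 1, 1], [1,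 1, 1, 2, 2, 2, 1, 0], [1, 1, 1, 2, 2, 2, 1, 1], [1, 1, 1, 2, 2, 2, 2, 1], [1, 1, 2, 2, 1, 0, 0, 0], [1, 1, 2, 2, 1, 1, 0, 0], [1, 1, 2, 2, 1, 1, 1, 0], [1, 1, 2, 2, 1, 1, 1, 1], [1, 1, 2, 2, 2, 1, 0, 0], [1, 1, 2, 2, 2, 1, 1, 0], [1, 1, 2, 2, 2, 1, 1, 1], [1, 1, 2, 2, 2, 2, 1, 0], [1, 1, 2, 2, 2, 2, 1, 1], [1, 1, 2, 2, 2, 2, 2, 1], [1, 1, 2, 3, 2, 1, 1, 0], [1, 1, 2, 3, 2, 1, 1, 1], [1, 1, 2, 3, 2, 2, 1, 0], [1, 1, 2, 3, 2, 2, 1, 1], [1, 1, 2, 3, 2, 2, 2, 1], [1, 1, 2, 3, 3, 2, 1, 0], [1, 1, 2, 3, 3, 2, 1, 1], [1, 1, 2, 3, 3, 2, 2, 1], [1, 1, 2, 3, 3, 3, 2, 1], [1, 2, 2, 3, 2, 1, 1, 0], [1, 2, 2, 3, 2, 1, 1, 1], [1, 2, 2, 3, 2, 2, 1, 0], [1, 2, 2, 3, 2, 2, 1, 1], [1, 2, 2, 3, 2, 2, 2, 1], [1, 2, 2, 3, 3, 2, 1, 0], [1, 2, 2, 3, 3, 2, 1, 1], [1, 2, 2, 3, 3, 2, 2, 1], [1, 2, 2, 3, 3, 3, 2, 1], [1, 2, 2, 4, 3, 2, 1, 0], [1, 2, 2, 4, 3, 2, 1, 1], [1, 2, 2, 4, 3, 2, 2, 1], [1, 2, 2, 4, 3, 3, 2, 1], [1, 2, 2, 4, 4, 3, 2, 1], [1, 2,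 3, 4, 3, 2, 1, 0], [1, 2, 3, 4, 3, 2, 1, 1], [1, 2, 3, 4, 3, 2, 2, 1], [1, 2, 3, 4, 3, 3, 2, 1], [1, 2, 3, 4, 4, 3, 2, 1], [1, 2, 3, 5, 4, 3, 2, 1], [1, 3, 3, 5, 4, 3, 2, 1], [2, 2, 3, 4, 3, 2, 1, 0], [2, 2, 3, 4, 3, 2, 1, 1], [2, 2, 3, 4, 3, 2, 2, 1], [2, 2, 3, 4, 3, 3, 2, 1], [2, 2, 3, 4, 4, 3, 2, 1], [2, 2, 3, 5, 4, 3, 2, 1], [2, 2, 4, 5, 4, 3, 2, 1], [2, 3, 3, 5, 4, 3, 2, 1], [2, 3, 4, 5, 4, 3, 2, 1], [2, 3, 4, 6, 4, 3, 2, 1], [2, 3, 4, 6, 5, 3, 2, 1], [2, 3, 4, 6, 5, 4, 2, 1]]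

private theorem S8_sub : ∀ r ∈ S8, r ∈ R8 := by decide +kernel

/-- scalar product -/
private noncomputable def dN (r : List ℕ) : List ℕ → ℕ :=
  List.rec (fun _ => 0) (fun a _ ih c => List.rec 0 (fun b bs _ => Nat.add (Nat.mul a b) (ih bs)) c) r

private theorem dN_eq : ∀ (r : List ℕ) (c : List ℤ), (∀ a ∈ c, -1 ≤ a) →
    (dN r (c.map fun a => (a + 1).toNat) : ℤ) = dotZ r c + dN r (List.replicate c.length 1)
  | [], _, _ => by
    show ((0 : ℕ) : ℤ) = 0 + ((0 : ℕ) : ℤ)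
    rfl
  | _ :: _, [], _ => rfl
  | a :: r, b :: c, h => by
    have h1 := dN_eq r c fun x hx => h x (List.mem_cons_of_mem _ hx)
    have h2 : ((b + 1).toNat : ℤ) = b + 1 := Int.toNat_of_nonneg (by have := h b List.mem_cons_self; omega)
    show ((a * (b + 1).toNat + dN r (c.map fun a => (a + 1).toNat) : ℕ) : ℤ) =
      (a : ℤ) * b + dotZ r c + ((a * 1 + dN r (List.replicate c.length 1) : ℕ) : ℤ)
    rw [Nat.cast_add, Nat.cast_add, Nat.cast_mul, Nat.cast_mul, h1, h2, Nat.cast_one]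
    ring

/-- the values on the roots of `S8` are in `{-1, 0, 1}` -/
private noncomputable def allow (c : List ℕ) : Bool :=
  S8.all fun r => Nat.ble (dN r (List.replicate 8 1)) (Nat.succ (dN r c)) && Nat.ble (dN r c) (Nat.succ (dN r (List.replicate 8 1)))

/-- the search -/
private noncomputable def go (n : ℕ) : List ℕ → Bool :=
  Nat.rec (fun c => !(allow c) || c.all fun a => Nat.beq a 1) (fun _ ih c => ih (0 :: c) && (ih (1 :: c) && ih (2 :: c))) n

private theorem go_ok : go 8 [] = true := by decide +kernel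

private theorem go_spec (n : ℕ) : ∀ (c : List ℕ), go n c = true → ∀ l : List ℕ, l.length = n →
    (∀ a ∈ l, a = 0 ∨ a = 1 ∨ a = 2) → go 0 (l ++ c) = true := by
  induction n with
  | zero =>
    intro c hc l hl _
    rw [List.length_eq_zero_iff.1 hl]
    exact hc
  | succ n ih =>
    intro c hc l hl ha
    have hne : l ≠ [] := by rintro rfl; exact Nat.noConfusion hl
    have h1 := List.dropLast_append_getLast hne
    have h2 : l ++ c = l.dropLast ++ (l.getLast hne :: c) := by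
      conv_lhs => rw [← h1]
      rw [List.append_assoc]
      rfl
    rw [h2]
    have hc' : (go n (0 :: c) && (go n (1 :: c) && go n (2 :: c))) = true := hc
    rw [Bool.and_eq_true, Bool.and_eq_true] at hc'
    refine ih _ ?_ _ (by rw [List.length_dropLast, hl]; rfl) fun a h => ha a (List.mem_of_mem_dropLast h)
    rcases ha _ (List.getLast_mem hne) with h | h | h
    · rw [h]; exact hc'.1
    · rw [h]; exact hc'.2.1
    · rw [h]; exact hc'.2.2

/-- the unit lists are positive roots -/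
theorem toR_unit : ∀ i : Fin 8, ∃ r ∈ R8, toR r = sr i := by
  intro i
  have h : (sr i : Fin 8 → ℤ) ∈ RGD.Pos cs8 e8T.isCartan := ⟨isRoot_sr cs8 e8T.isCartan i, sr_nonneg i⟩
  obtain ⟨r, hr, h1⟩ := mem_pos_iff.1 h
  exact ⟨r, hr, h1.symm⟩

/-- **no minuscule coweights** -/
theorem coweight {c : List ℤ} (hc : c.length = 8) (h : ∀ r ∈ R8, -1 ≤ fz c (toR r) ∧ fz c (toR r) ≤ 1) :
    ∀ a ∈ c, a = 0 := by
  have h1 : ∀ a ∈ c, a = -1 ∨ a = 0 ∨ a = 1 := by
    intro a ha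
    obtain ⟨i, hi, rfl⟩ := List.getElem_of_mem ha
    obtain ⟨r, hr, h2⟩ := toR_unit ⟨i, by omega⟩
    have h3 := h r hr
    rw [h2, fz_sr, List.getD_eq_getElem _ _ hi] at h3
    omega
  have h0 : ∀ a ∈ c, -1 ≤ a := fun a ha => by have := h1 a ha; omega
  have h2 := go_spec 8 [] go_ok (c.map fun a => (a + 1).toNat) (by rw [List.length_map, hc]) fun a ha => by
    obtain ⟨b, hb, rfl⟩ := List.mem_map.1 ha
    have := h1 b hb
    omega
  rw [List.append_nil] at h2
  have h3 : allow (c.map fun a => (a + 1).toNat) = true := by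
    refine List.all_eq_true.2 fun r hr => ?_
    have h4 := dN_eq r c h0
    have h5 := h r (S8_sub r hr)
    rw [← dotZ_fz (S8_sub r hr)] at h5
    rw [hc] at h4
    rw [Bool.and_eq_true, Nat.ble_eq, Nat.ble_eq]
    omega
  have h4 : (!(allow (c.map fun a => (a + 1).toNat)) || (c.map fun a => (a + 1).toNat).all fun a => Nat.beq a 1) = true := h2
  rw [h3] at h4
  intro a ha
  have h5 : ((c.map fun a => (a + 1).toNat).all fun a => Nat.beq a 1) = true := h4
  have h6 := Nat.eq_of_beq_eq_true (List.all_eq_true.1 h5 _ (List.mem_map.2 ⟨a, ha, rfl⟩))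
  have := h0 a ha
  omega

/-! ### the alcove -/

theorem th_le : ∀ r ∈ R8, ∀ i < 8, r.getD i 0 ≤ th8.getD i 0 := by decide +kernel

theorem ex_one : ∀ r ∈ R8, ∃ i < 8, 1 ≤ r.getD i 0 := by decide +kernel

theorem YZ_getD (Y : List ℕ) (i : ℕ) : (YZ Y).getD i 0 = ((Y.getD i 0 : ℕ) : ℤ) := by
  unfold YZ
  rw [show (0 : ℤ) = ((0 : ℕ) : ℤ) from rfl, List.getD_map]

/-- the values of an interior point of the alcove on the positive roots -/
theorem bound {N : ℕ} {Y : List ℕ} (hY : ∀ i < 8, 1 ≤ Y.getD i 0) (hN : dotN th8 Y < N) {r : List ℕ} (hr : r ∈ R8) :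
    0 < fz (YZ Y) (toR r) ∧ fz (YZ Y) (toR r) < N := by
  have h1 : fz (YZ Y) (toR r) = ((∑ i : Fin 8, r.getD i 0 * Y.getD i 0 : ℕ) : ℤ) := by
    unfold fz
    push_cast
    refine Finset.sum_congr rfl fun i _ => ?_
    rw [YZ_getD, mul_comm]
    rfl
  have h2 : dotN th8 Y = ∑ i : Fin 8, th8.getD i 0 * Y.getD i 0 := dotN_eq 8 th8 Y (by decide)
  have h3 : ∑ i : Fin 8, r.getD i 0 * Y.getD i 0 ≤ ∑ i : Fin 8, th8.getD i 0 * Y.getD i 0 :=
    Finset.sum_le_sum fun i _ => Nat.mul_le_mul_right _ (th_le r hr i i.2)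
  have h4 : 0 < ∑ i : Fin 8, r.getD i 0 * Y.getD i 0 := by
    obtain ⟨i, hi, h5⟩ := ex_one r hr
    have h6 : r.getD i 0 * Y.getD i 0 ≤ ∑ i : Fin 8, r.getD i 0 * Y.getD i 0 :=
      Finset.single_le_sum (f := fun i : Fin 8 => r.getD i 0 * Y.getD i 0) (fun _ _ => Nat.zero_le _)
        (Finset.mem_univ (⟨i, hi⟩ : Fin 8))
    have h7 : 1 ≤ r.getD i 0 * Y.getD i 0 := Nat.mul_le_mul h5 (hY i hi)
    omega
  rw [h1]
  constructor
  · exact_mod_cast h4
  · have : ∑ i : Fin 8, r.getD i 0 * Y.getD i 0 < N := by omega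
    exact_mod_cast this

theorem fz_neg (c : List ℤ) (x : Fin 8 → ℤ) : fz c (-x) = -fz c x := by
  have h := fz_sub c 0 x
  have h0 : fz c 0 = 0 := by unfold fz; simp
  rw [zero_sub, h0, zero_sub] at h
  exact h

/-- the values on the roots -/
theorem bound' {N : ℕ} {Y : List ℕ} (hY : ∀ i < 8, 1 ≤ Y.getD i 0) (hN : dotN th8 Y < N) {a : Fin 8 → ℤ} (ha : Rt a) :
    -(N : ℤ) < fz (YZ Y) a ∧ fz (YZ Y) a < N := by
  rcases ha.pos_or_neg with h | h
  · obtain ⟨r, hr, rfl⟩ := mem_pos_iff.1 (⟨ha, h⟩ : a ∈ RGD.Pos cs8 e8T.isCartan)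
    have := bound hY hN hr
    constructor <;> omega
  · obtain ⟨r, hr, h1⟩ := mem_pos_iff.1 (⟨ha.neg, neg_nonneg.2 h⟩ : -a ∈ RGD.Pos cs8 e8T.isCartan)
    have := bound hY hN hr
    rw [← h1, fz_neg] at this
    constructor <;> omega

/-- **REG** -/
theorem reg : REG := by
  intro N Y ζ t w hY8 hY hN hζ ht hc hw
  have : Finite W8 := finite_W e8T cs8
  have hN0 : 0 < N := by omega
  have hζ0 : ζ ≠ 0 := hζ.ne_zero hN0.ne'
  -- the character
  have hψ : IsMC (fun x : Fin 8 → ℤ => ζ ^ fz (YZ Y) x) :=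
    { zero := by
        show ζ ^ fz (YZ Y) 0 = 1
        have h0 : fz (YZ Y) 0 = 0 := by unfold fz; simp
        rw [h0, zpow_zero]
      add := fun x y => by
        show ζ ^ fz (YZ Y) (x + y) = _
        rw [fz_add, zpow_add₀ hζ0] }
  have h1 : ∀ x, cX e8T t x = ζ ^ fz (YZ Y) x := (isMC_cX e8T ht).ext hψ (fun i => by
    rw [hc]
    show ζ ^ Y.getD i 0 = ζ ^ fz (YZ Y) (sr i)
    rw [fz_sr, YZ_getD, zpow_natCast])
  have h2 : ∀ x, (N : ℤ) ∣ fz (YZ Y) (act8 w x) - fz (YZ Y) x := by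
    intro x
    have h3 := hw x
    rw [h1, h1] at h3
    rw [← hζ.zpow_eq_one_iff_dvd, zpow_sub₀ hζ0, h3, div_self (zpow_ne_zero _ hζ0)]
  -- the quotient
  let lam : List ℤ := List.ofFn fun i : Fin 8 => (fz (YZ Y) (act8 w (sr i)) - fz (YZ Y) (sr i)) / N
  have hlen : lam.length = 8 := List.length_ofFn
  have hget : ∀ i : Fin 8, lam.getD i 0 = (fz (YZ Y) (act8 w (sr i)) - fz (YZ Y) (sr i)) / N := by
    intro i
    rw [List.getD_eq_getElem _ _ (by rw [hlen]; exact i.2), List.getElem_ofFn]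
  have hadd : ∀ x, fz (YZ Y) (act8 w x) - fz (YZ Y) x = N * fz lam x := by
    intro x
    have hx : x = ∑ i : Fin 8, x i • sr i := by
      funext j
      rw [Finset.sum_apply, Finset.sum_eq_single j]
      · rw [Pi.smul_apply, sr_self, smul_eq_mul, mul_one]
      · intro k _ hk
        rw [Pi.smul_apply, sr_ne (Ne.symm hk), smul_zero]
      · intro h
        exact absurd (Finset.mem_univ j) h
    have hsum : ∀ (c : List ℤ), fz c (∑ i : Fin 8, x i • sr i) = ∑ i : Fin 8, x i * fz c (sr i) := by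
      intro c
      unfold fz
      simp only [Finset.sum_apply, Pi.smul_apply, smul_eq_mul, Finset.mul_sum]
      rw [Finset.sum_comm]
      refine Finset.sum_congr rfl fun i _ => Finset.sum_congr rfl fun j _ => ?_
      ring
    have hsum' : fz (YZ Y) (act8 w (∑ i : Fin 8, x i • sr i)) = ∑ i : Fin 8, x i * fz (YZ Y) (act8 w (sr i)) := by
      have h5 : act8 w (∑ i : Fin 8, x i • sr i) = ∑ i : Fin 8, x i • act8 w (sr i) := by
        show rep cs8 e8T.isCartan w (∑ i : Fin 8, x i • sr i) = _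
        rw [map_sum]
        exact Finset.sum_congr rfl fun i _ => map_zsmul _ _ _
      rw [h5]
      unfold fz
      simp only [Finset.sum_apply, Pi.smul_apply, smul_eq_mul, Finset.mul_sum]
      rw [Finset.sum_comm]
      refine Finset.sum_congr rfl fun i _ => Finset.sum_congr rfl fun j _ => ?_
      ring
    rw [hx, hsum', hsum, hsum, ← Finset.sum_sub_distrib, Finset.mul_sum]
    refine Finset.sum_congr rfl fun i _ => ?_
    rw [fz_sr lam, hget, ← mul_sub]
    have h6 := Int.mul_ediv_cancel' (h2 (sr i))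
    calc x i * (fz (YZ Y) (act8 w (sr i)) - fz (YZ Y) (sr i))
        = x i * (N * ((fz (YZ Y) (act8 w (sr i)) - fz (YZ Y) (sr i)) / N)) := by rw [h6]
      _ = _ := by ring
  have hz : ∀ a ∈ lam, a = 0 := by
    refine coweight hlen fun r hr => ?_
    have hp : toR r ∈ RGD.Pos cs8 e8T.isCartan := mem_pos_iff.2 ⟨r, hr, rfl⟩
    have hrt : Rt (toR r) := hp.1
    have h5 := bound' hY hN hrt
    have h6 : -(N : ℤ) < fz (YZ Y) (act8 w (toR r)) ∧ fz (YZ Y) (act8 w (toR r)) < (N : ℤ) :=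
      bound' hY hN (hrt.act w)
    have h7 := hadd (toR r)
    have h8 : (N : ℤ) * fz lam (toR r) < 2 * N := by omega
    have h9 : -(2 * N : ℤ) < (N : ℤ) * fz lam (toR r) := by omega
    have hNp : (0 : ℤ) < N := by exact_mod_cast hN0
    constructor
    · by_contra hcon
      nlinarith
    · by_contra hcon
      nlinarith
  have hfz : ∀ x, fz (YZ Y) (act8 w x) = fz (YZ Y) x := by
    intro x
    have h5 := hadd x
    have h6 : fz lam x = 0 := by
      unfold fz
      refine Finset.sum_eq_zero fun i _ => ?_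
      rw [List.getD_eq_getElem _ _ (by rw [hlen]; exact i.2), hz _ (List.getElem_mem _), zero_mul]
    rw [h6, mul_zero] at h5
    omega
  -- positivity
  refine CoxeterGeom.eq_one_of_nonneg cs8 e8T.isCartan w fun i => ?_
  have hrt : Rt (act8 w (sr i)) := ⟨_, i, rfl⟩
  rcases hrt.pos_or_neg with h5 | h5
  · exact h5
  · exfalso
    obtain ⟨r, hr, h6⟩ := mem_pos_iff.1 (⟨hrt.neg, neg_nonneg.2 h5⟩ : -(act8 w (sr i)) ∈ RGD.Pos cs8 e8T.isCartan)
    have h7 := bound hY hN hr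
    rw [← h6, fz_neg, hfz, fz_sr, YZ_getD] at h7
    omega

end Cfsg.Agent.H845.E8L
end
end

-- part: H948/P3/Grp
section
prune_inst 0x7f00000000000000000000000000000000000000000000000000000000000000000000000000000000000000000000000000000000000000000000000000000000000000000000000000000000000000003fffffffffffffffffffffffffffbeffbdffffffff
set_option linter.all false
open scoped Cfsg.Agent.FastGrp

-- part: H948/P3/Cert
section
/-!
# S5921, P3: the certificate for the centraliser of `y`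
-/

set_option autoImplicit false
set_option maxRecDepth 100000

namespace Cfsg.Agent.H948.P3

open Cfsg.Agent.H942.CB

/-- the alcove vector -/
def V3 : List ℕ := [5, 0, 0, 1, 0, 2, 0, 1]

/-- the twist -/
def w3 : List ℕ := [3, 2, 1, 3, 4, 5, 6, 7, 3, 2, 1, 3, 4, 5, 6, 0, 2, 3, 4, 5, 1, 3, 4, 2, 3, 0, 2, 1, 3, 4,
  5, 6, 7, 0, 2, 3, 4, 5, 1, 3, 4, 2, 3, 0, 2, 1, 3, 4, 5, 6, 5, 4, 3, 2, 1, 3, 4, 5, 0, 2, 3, 4, 1, 3, 2, 0]

/-- certificate, `N = 40`, type 4A1 -/
def C3 : Cert := ⟨w3, [1, 1, 1, 1, 1, 1, 80, 80], [[1, 0, 0, 0, 0, 0, 0, 0], [0, 1, 0, 0, 0, 0, 0, 0], [-1, 0,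
  1, 0, 0, 0, 0, 0], [-1, 0, 0, 1, 0, 0, 0, 0], [-4, 3, 9, -5, 1, 0, 0, 0], [22, 0, 0, -19, 0, 1, 0, 0], [-31,
  9, 27, 1, 3, -1, 1, 0], [45, 0, 0, -39, 0, 2, 0, 1]], [[1, 0, 1, 1, 0, -3, 0, 0], [0, 1, 0, 0, -3, 0, 0, 0],
  [0, 0, 1, 0, -9, 0, 0, 0], [0, 0, 0, 1, 5, 19, 3, 1], [0, 0, 0, 0, 1, 0, -3, 0], [0, 0, 0, 0, 0, 1, 1, -2],
  [0, 0, 0, 0, 0, 0, 1, 0], [0, 0, 0, 0, 0, 0, 0, 1]], [[], [1, 2, 4, 6]]⟩

theorem chkC3 : chk 40 V3 C3 = true := by decide +kernel

theorem bndC3 : bnd 40 V3 C3 = 42508800 := by decide +kernel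

end Cfsg.Agent.H948.P3
end

-- part: H948/P3/Act
section
/-!
# S5921, P3: the action of the centraliser of `t` on the 16-dimensional space of the vectors of weight 1

The eight roots `± α_i`, `i = 1, 2, 4, 6` (numbered from 0), have the indices `pI j`, `nI j`, `j < 4`.
-/

set_option autoImplicit false
set_option linter.unusedSectionVars false
set_option maxRecDepth 100000

namespace Cfsg.Agent.H948.P3

open Matrix Cfsg Cfsg.Lie Cfsg.Lie.ChevalleyDatum
open Cfsg.Agent.ChevalleyStructure Cfsg.Agent.ChevalleyStructure.XColumns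

universe u

section Gen

variable {K : Type u} [Field K] {D : ChevalleyDatum}

theorem eq_sum (u : D.Idx → K) : u = (∑ i : Fin D.rank, u (Sum.inl i) • hv D K i.val) +
    ∑ s : Fin D.nroots, u (Sum.inr s) • ev D K s.val := by
  classical
  funext a
  rw [Pi.add_apply, Finset.sum_apply, Finset.sum_apply]
  simp only [Pi.smul_apply, smul_eq_mul]
  rcases a with i | s
  · rw [Finset.sum_eq_single i, Finset.sum_eq_zero]
    · simp
    · intro s _; simp
    · intro b _ hb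
      rw [hv_inl, if_neg (fun h => hb (Fin.ext h).symm), mul_zero]
    · intro h; exact absurd (Finset.mem_univ i) h
  · rw [Finset.sum_eq_zero (s := (Finset.univ : Finset (Fin D.rank))), Finset.sum_eq_single s]
    · simp
    · intro b _ hb
      rw [ev_inr, if_neg (fun h => hb (Fin.ext h).symm), mul_zero]
    · intro h; exact absurd (Finset.mem_univ s) h
    · intro i _; simp

/-- the action of a root element on a vector whose other weights are orthogonal to the root -/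
theorem x_act {r : ℕ} (hr : r < D.nroots) (hn : D.neg r < D.nroots) (hne : D.neg r ≠ r)
    (hrow : ((row D r).map Prod.fst).Nodup) (u : D.Idx → K)
    (hu : ∀ s : Fin D.nroots, u (Sum.inr s) ≠ 0 → s.val ≠ r → s.val ≠ D.neg r → D.chainEntry r s.val = []) (t : K) :
    D.x K r t *ᵥ u = u + (-(t * ∑ i : Fin D.rank, (D.cartan i.val r : K) * u (Sum.inl i)) -
      t ^ 2 * u (Sum.inr ⟨D.neg r, hn⟩)) • ev D K r + (t * u (Sum.inr ⟨D.neg r, hn⟩)) • corv D K r := by
  classical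
  have h1 : ∀ s : Fin D.nroots, u (Sum.inr s) • (D.x K r t *ᵥ ev D K s.val) = u (Sum.inr s) • ev D K s.val +
      (if s = ⟨D.neg r, hn⟩ then u (Sum.inr s) • (t • corv D K r - t ^ 2 • ev D K r) else 0) := by
    intro s
    by_cases h0 : u (Sum.inr s) = 0
    · rw [h0, zero_smul, zero_smul, zero_smul, ite_self, add_zero]
    by_cases hs : s.val = r
    · have h2 : ¬ s = ⟨D.neg r, hn⟩ := fun h => hne ((congrArg Fin.val h).symm.trans hs)
      rw [hs, x_mulVec_ev_self hr, if_neg h2, add_zero]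
    by_cases hs' : s.val = D.neg r
    · have h2 : s = ⟨D.neg r, hn⟩ := Fin.ext hs'
      rw [if_pos h2, hs', x_mulVec_ev_neg hr hn hne, ← smul_add]
      congr 1
      abel
    · rw [if_neg fun h => hs' (congrArg Fin.val h), add_zero, x_mulVec_ev hr s.2 hs hs' hrow,
        hu s h0 hs hs']
      simp
  have h2 : ∀ i : Fin D.rank, u (Sum.inl i) • (D.x K r t *ᵥ hv D K i.val) = u (Sum.inl i) • hv D K i.val -
      (t * ((D.cartan i.val r : K) * u (Sum.inl i))) • ev D K r := by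
    intro i
    rw [x_mulVec_hv hr i.2, smul_sub, smul_smul]
    congr 2
    ring
  have h3 : D.x K r t *ᵥ u = (∑ i : Fin D.rank, u (Sum.inl i) • (D.x K r t *ᵥ hv D K i.val)) +
      ∑ s : Fin D.nroots, u (Sum.inr s) • (D.x K r t *ᵥ ev D K s.val) := by
    have h4 := congrArg (fun v => (D.x K r t).mulVecLin v) (eq_sum u)
    simp only [map_add, map_sum, map_smul, Matrix.mulVecLin_apply] at h4
    exact h4
  rw [h3, Finset.sum_congr rfl fun i _ => h2 i, Finset.sum_congr rfl fun s _ => h1 s, Finset.sum_sub_distrib,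
    Finset.sum_add_distrib, Finset.sum_ite_eq' Finset.univ, if_pos (Finset.mem_univ _), ← Finset.sum_smul,
    ← Finset.mul_sum]
  simp only [smul_sub, smul_smul, sub_smul, neg_smul]
  rw [mul_comm (u _) t, mul_comm (u _) (t ^ 2)]
  have e : ∀ (a b c d f : D.Idx → K), a - b + (c + (d - f)) = (a + c) + (-b - f) + d := by intros; abel
  rw [e, ← eq_sum u]

end Gen

end Cfsg.Agent.H948.P3
end

-- part: H948/P3/Comp
section
/-!
# S5921, P3: components, forms, and the good matrices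
-/

set_option autoImplicit false
set_option linter.unusedSectionVars false
set_option maxRecDepth 100000

namespace Cfsg.Agent.H948.P3

open Matrix Cfsg Cfsg.Lie Cfsg.Lie.ChevalleyDatum
open Cfsg.Agent.ChevalleyStructure Cfsg.Agent.ChevalleyStructure.XColumns

universe u

/-- the indices of the roots `α_i`, `i = 1, 2, 4, 6` -/
def pI : Fin 4 → ℕ := ![141, 135, 126, 121]

/-- the indices of the roots `-α_i`, `i = 1, 2, 4, 6` -/
def nI : Fin 4 → ℕ := ![98, 104, 113, 118]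

/-- the indices of the coroots -/
def hI : Fin 4 → Fin 8 := ![1, 2, 4, 6]

theorem pI_lt : ∀ j, pI j < chevE8.nroots := by decide
theorem nI_lt : ∀ j, nI j < chevE8.nroots := by decide
theorem hI_lt : ∀ j, ((hI j : Fin 8) : ℕ) < chevE8.rank := by decide
theorem neg_pI : ∀ j, chevE8.neg (pI j) = nI j := by decide +kernel
theorem neg_nI : ∀ j, chevE8.neg (nI j) = pI j := by decide +kernel
theorem pI_ne_nI : ∀ i j, pI i ≠ nI j := by decide
theorem pI_inj : ∀ i j, pI i = pI j → i = j := by decide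
theorem nI_inj : ∀ i j, nI i = nI j → i = j := by decide
theorem hI_inj : ∀ i j, hI i = hI j → i = j := by decide

theorem row_p : ∀ j, ((row chevE8 (pI j)).map Prod.fst).Nodup := by (delta Cfsg.Agent.ChevalleyStructure.XColumns.row; rewrite [Cfsg.Agent.ChevFast.E8.chain]; decide +kernel)
theorem row_n : ∀ j, ((row chevE8 (nI j)).map Prod.fst).Nodup := by decide +kernel

theorem ch_pp : ∀ i j, i ≠ j → chevE8.chainEntry (pI i) (pI j) = [] := by decide +kernel
theorem ch_pn : ∀ i j, i ≠ j → chevE8.chainEntry (pI i) (nI j) = [] := by (rewrite [Cfsg.Agent.ChevFast.E8.chainEntry]; decide +kernel)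
theorem ch_np : ∀ i j, i ≠ j → chevE8.chainEntry (nI i) (pI j) = [] := by (rewrite [Cfsg.Agent.ChevFast.E8.chainEntry]; decide +kernel)
theorem ch_nn : ∀ i j, i ≠ j → chevE8.chainEntry (nI i) (nI j) = [] := by (rewrite [Cfsg.Agent.ChevFast.E8.chainEntry]; decide +kernel)

theorem car_n : ∀ (j : Fin 4) (i : Fin chevE8.rank), chevE8.cartan i.val (nI j) = - chevE8.cartan i.val (pI j) := by
  (rewrite [Cfsg.Agent.ChevFast.E8.cartan]; decide +kernel)
theorem car_h : ∀ i j : Fin 4, chevE8.cartan (hI i).val (pI j) = if i = j then 2 else 0 := by (rewrite [Cfsg.Agent.ChevFast.E8.cartan]; decide +kernel)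
theorem cor_p : ∀ (j : Fin 4) (i : Fin chevE8.rank), (chevE8.coroot.getD (pI j) #[]).getD i.val 0 =
    if i.val = (hI j).val then 1 else 0 := by decide +kernel
theorem cor_n : ∀ (j : Fin 4) (i : Fin chevE8.rank), (chevE8.coroot.getD (nI j) #[]).getD i.val 0 =
    if i.val = (hI j).val then -1 else 0 := by decide +kernel

/-- the index of `α` -/
def px (j : Fin 4) : chevE8.Idx := Sum.inr ⟨pI j, pI_lt j⟩

/-- the index of `-α` -/
def nx (j : Fin 4) : chevE8.Idx := Sum.inr ⟨nI j, nI_lt j⟩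

/-- the index of the coroot -/
def hx (i : Fin 8) : chevE8.Idx := Sum.inl ⟨i.val, i.2⟩

variable {K : Type u} [Field K]

/-- the support condition -/
def Su (u : chevE8.Idx → K) : Prop :=
  ∀ s : Fin chevE8.nroots, u (Sum.inr s) ≠ 0 → ∃ j : Fin 4, s.val = pI j ∨ s.val = nI j

/-- the value of the root on the Cartan part -/
def al (j : Fin 4) : (chevE8.Idx → K) →ₗ[K] K :=
  ∑ i : Fin chevE8.rank, (chevE8.cartan i.val (pI j) : K) • LinearMap.proj (Sum.inl i)

theorem al_apply (j : Fin 4) (u : chevE8.Idx → K) :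
    al j u = ∑ i : Fin chevE8.rank, (chevE8.cartan i.val (pI j) : K) * u (Sum.inl i) := by
  simp [al]

/-- the component -/
def cp (j : Fin 4) : (chevE8.Idx → K) →ₗ[K] (Fin 3 → K) :=
  LinearMap.pi ![LinearMap.proj (px j), LinearMap.proj (nx j), al j]

theorem cp_zero (j : Fin 4) (u : chevE8.Idx → K) : cp j u 0 = u (px j) := rfl
theorem cp_one (j : Fin 4) (u : chevE8.Idx → K) : cp j u 1 = u (nx j) := rfl
theorem cp_two (j : Fin 4) (u : chevE8.Idx → K) : cp j u 2 = al j u := rfl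

theorem cp_eq (j : Fin 4) (u : chevE8.Idx → K) : cp j u = ![u (px j), u (nx j), al j u] := by
  funext k
  fin_cases k <;> rfl

/-- the central part -/
def zp : (chevE8.Idx → K) →ₗ[K] (Fin 8 → K) :=
  LinearMap.pi fun i => LinearMap.proj (hx i) + ∑ j : Fin 4, (if hI j = i then (1 : K) else 0) • al j

theorem zp_apply (u : chevE8.Idx → K) (i : Fin 8) :
    zp u i = u (hx i) + ∑ j : Fin 4, (if hI j = i then (1 : K) else 0) * al j u := by
  unfold zp
  rw [LinearMap.pi_apply, LinearMap.add_apply, LinearMap.sum_apply]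
  rfl

/-- the quadratic form -/
def Qf (v : Fin 3 → K) : K := v 0 * v 1 + v 2 ^ 2

/-- a vector is determined by its components -/
theorem ext_of_comp {u : chevE8.Idx → K} (hu : Su u) (hz : zp u = 0) (hc : ∀ j, cp j u = 0) : u = 0 := by
  have hal : ∀ j, al j u = 0 := fun j => by
    have := congrFun (hc j) 2
    rwa [cp_two] at this
  funext a
  rcases a with i | s
  · have h1 := congrFun hz ⟨i.val, i.2⟩
    rw [zp_apply, Finset.sum_eq_zero fun j _ => by rw [hal j, mul_zero], add_zero] at h1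
    exact h1
  · by_contra h0
    obtain ⟨j, hj | hj⟩ := hu s h0
    · apply h0
      have h1 := congrFun (hc j) 0
      rw [cp_zero] at h1
      have e : (Sum.inr s : chevE8.Idx) = px j := by
        unfold px; congr 1; exact Fin.ext hj
      rw [e]; exact h1
    · apply h0
      have h1 := congrFun (hc j) 1
      rw [cp_one] at h1
      have e : (Sum.inr s : chevE8.Idx) = nx j := by
        unfold nx; congr 1; exact Fin.ext hj
      rw [e]; exact h1

theorem Su.add {u v : chevE8.Idx → K} (hu : Su u) (hv : Su v) : Su (u + v) := by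
  intro s hs
  by_cases h : u (Sum.inr s) = 0
  · exact hv s fun h' => hs (by rw [Pi.add_apply, h, h', add_zero])
  · exact hu s h

theorem Su.smul {u : chevE8.Idx → K} (hu : Su u) (c : K) : Su (c • u) := by
  intro s hs
  exact hu s fun h' => hs (by rw [Pi.smul_apply, h', smul_zero])

theorem Su.zero : Su (0 : chevE8.Idx → K) := fun s hs => absurd rfl hs

theorem Su.sum {ι : Type*} (t : Finset ι) (f : ι → chevE8.Idx → K) (hf : ∀ i ∈ t, Su (f i)) : Su (∑ i ∈ t, f i) := by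
  classical
  induction t using Finset.induction_on with
  | empty => rw [Finset.sum_empty]; exact Su.zero
  | insert a t ha ih =>
    rw [Finset.sum_insert ha]
    exact (hf a (Finset.mem_insert_self a t)).add (ih fun i hi => hf i (Finset.mem_insert_of_mem hi))

theorem su_ev {r : ℕ} (h : ∃ j : Fin 4, r = pI j ∨ r = nI j) : Su (ev chevE8 K r) := by
  intro s hs
  rw [ev_inr] at hs
  have h1 : s.val = r := by
    by_contra h1
    rw [if_neg h1] at hs
    exact hs rfl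
  rw [h1]
  exact h

theorem su_hv (i : ℕ) : Su (hv chevE8 K i) := by
  intro s hs
  exact absurd (hv_inr i s) hs

/-! ### the values of the components -/

theorem al_ev (j : Fin 4) (r : ℕ) : al j (ev chevE8 K r) = 0 := by
  rw [al_apply]
  exact Finset.sum_eq_zero fun i _ => by rw [ev_inl, mul_zero]

theorem al_hv (i j : Fin 4) : al j (hv chevE8 K (hI i).val) = if i = j then 2 else 0 := by
  rw [al_apply, Finset.sum_eq_single (⟨(hI i).val, hI_lt i⟩ : Fin chevE8.rank)]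
  · rw [hv_inl, if_pos rfl, mul_one]
    show ((chevE8.cartan (hI i).val (pI j) : ℤ) : K) = _
    rw [car_h]
    split_ifs <;> simp
  · intro b _ hb
    rw [hv_inl, if_neg (fun h => hb (Fin.ext h)), mul_zero]
  · intro h; exact absurd (Finset.mem_univ _) h

theorem cp_ev_p (i j : Fin 4) : cp j (ev chevE8 K (pI i)) = if i = j then ![1, 0, 0] else 0 := by
  rw [cp_eq, al_ev]
  have h1 : ev chevE8 K (pI i) (px j) = if i = j then 1 else 0 := by
    unfold px
    rw [ev_inr]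
    by_cases h : i = j
    · subst h; simp
    · rw [if_neg h, if_neg fun h' => h (pI_inj _ _ h').symm]
  have h2 : ev chevE8 K (pI i) (nx j) = 0 := by
    unfold nx
    rw [ev_inr, if_neg fun h' => pI_ne_nI i j h'.symm]
  rw [h1, h2]
  split_ifs
  · rfl
  · funext k; fin_cases k <;> rfl

theorem cp_ev_n (i j : Fin 4) : cp j (ev chevE8 K (nI i)) = if i = j then ![0, 1, 0] else 0 := by
  rw [cp_eq, al_ev]
  have h1 : ev chevE8 K (nI i) (nx j) = if i = j then 1 else 0 := by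
    unfold nx
    rw [ev_inr]
    by_cases h : i = j
    · subst h; simp
    · rw [if_neg h, if_neg fun h' => h (nI_inj _ _ h').symm]
  have h2 : ev chevE8 K (nI i) (px j) = 0 := by
    unfold px
    rw [ev_inr, if_neg fun h' => pI_ne_nI j i h']
  rw [h1, h2]
  split_ifs
  · rfl
  · funext k; fin_cases k <;> rfl

theorem cp_hv (i j : Fin 4) : cp j (hv chevE8 K (hI i).val) = if i = j then ![0, 0, 2] else 0 := by
  rw [cp_eq, al_hv]
  have h1 : hv chevE8 K (hI i).val (px j) = 0 := hv_inr _ _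
  have h2 : hv chevE8 K (hI i).val (nx j) = 0 := hv_inr _ _
  rw [h1, h2]
  split_ifs
  · rfl
  · funext k; fin_cases k <;> rfl

theorem zp_ev (r : ℕ) : zp (ev chevE8 K r) = 0 := by
  funext i
  rw [zp_apply, Finset.sum_eq_zero fun j _ => by rw [al_ev, mul_zero], add_zero]
  exact ev_inl _ _

theorem zp_hv (h3 : (3 : K) = 0) (i : Fin 4) : zp (hv chevE8 K (hI i).val) = 0 := by
  funext k
  rw [zp_apply, Finset.sum_eq_single i]
  · rw [al_hv, if_pos rfl]
    have h1 : hv chevE8 K (hI i).val (hx k) = if hI i = k then 1 else 0 := by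
      unfold hx
      rw [hv_inl]
      by_cases h : hI i = k
      · subst h; simp
      · rw [if_neg h, if_neg fun h' => h (Fin.ext h').symm]
    rw [h1, Pi.zero_apply]
    split_ifs
    · linear_combination h3
    · ring
  · intro b _ hb
    rw [al_hv, if_neg (Ne.symm hb), mul_zero]
  · intro h; exact absurd (Finset.mem_univ _) h

/-! ### the root elements -/

theorem corv_p (j : Fin 4) : corv chevE8 K (pI j) = hv chevE8 K (hI j).val := by
  funext a
  rcases a with i | s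
  · rw [corv_inl, hv_inl, cor_p]
    split_ifs <;> simp
  · rfl

theorem corv_n (j : Fin 4) : corv chevE8 K (nI j) = - hv chevE8 K (hI j).val := by
  funext a
  rcases a with i | s
  · rw [corv_inl, Pi.neg_apply, hv_inl, cor_n]
    split_ifs <;> simp
  · rw [corv_inr, Pi.neg_apply, hv_inr, neg_zero]

theorem x_p {u : chevE8.Idx → K} (hu : Su u) (j : Fin 4) (t : K) :
    chevE8.x K (pI j) t *ᵥ u = u + (-(t * al j u) - t ^ 2 * u (nx j)) • ev chevE8 K (pI j) +
      (t * u (nx j)) • hv chevE8 K (hI j).val := by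
  have h1 := x_act (K := K) (D := chevE8) (r := pI j) (pI_lt j) (by rw [neg_pI]; exact nI_lt j)
    (by rw [neg_pI]; exact (pI_ne_nI j j).symm) (row_p j) u (fun s hs h2 h3 => by
      obtain ⟨i, hi | hi⟩ := hu s hs
      · rw [hi]
        exact ch_pp j i fun h => h2 (by rw [hi, h])
      · rw [hi]
        exact ch_pn j i fun h => h3 (by rw [hi, h, neg_pI])) t
  rw [h1, corv_p, ← al_apply]
  have e : (Sum.inr ⟨chevE8.neg (pI j), by rw [neg_pI]; exact nI_lt j⟩ : chevE8.Idx) = nx j := by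
    unfold nx; congr 1; exact Fin.ext (neg_pI j)
  rw [e]

theorem x_n {u : chevE8.Idx → K} (hu : Su u) (j : Fin 4) (t : K) :
    chevE8.x K (nI j) t *ᵥ u = u + (t * al j u - t ^ 2 * u (px j)) • ev chevE8 K (nI j) -
      (t * u (px j)) • hv chevE8 K (hI j).val := by
  have h1 := x_act (K := K) (D := chevE8) (r := nI j) (nI_lt j) (by rw [neg_nI]; exact pI_lt j)
    (by rw [neg_nI]; exact pI_ne_nI j j) (row_n j) u (fun s hs h2 h3 => by
      obtain ⟨i, hi | hi⟩ := hu s hs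
      · rw [hi]
        exact ch_np j i fun h => h3 (by rw [hi, h, neg_nI])
      · rw [hi]
        exact ch_nn j i fun h => h2 (by rw [hi, h])) t
  have e : (Sum.inr ⟨chevE8.neg (nI j), by rw [neg_nI]; exact pI_lt j⟩ : chevE8.Idx) = px j := by
    unfold px; congr 1; exact Fin.ext (neg_nI j)
  have e2 : ∑ i : Fin chevE8.rank, (chevE8.cartan i.val (nI j) : K) * u (Sum.inl i) = - al j u := by
    rw [al_apply, ← Finset.sum_neg_distrib]
    refine Finset.sum_congr rfl fun i _ => ?_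
    rw [car_n]
    push_cast
    ring
  rw [h1, corv_n, e, e2, smul_neg, mul_neg, neg_neg, ← sub_eq_add_neg]

/-! ### good matrices -/

/-- the matrix preserves the components, the forms and fixes the central part -/
structure Good (A : Matrix chevE8.Idx chevE8.Idx K) : Prop where
  su : ∀ u, Su u → Su (A *ᵥ u)
  zp : ∀ u, Su u → zp (A *ᵥ u) = zp u
  ker : ∀ u, Su u → ∀ j, cp j u = 0 → cp j (A *ᵥ u) = 0
  q : ∀ u, Su u → ∀ j, Qf (cp j (A *ᵥ u)) = Qf (cp j u)

theorem Good.one : Good (1 : Matrix chevE8.Idx chevE8.Idx K) where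
  su u hu := by rwa [Matrix.one_mulVec]
  zp u hu := by rw [Matrix.one_mulVec]
  ker u hu j hj := by rwa [Matrix.one_mulVec]
  q u hu j := by rw [Matrix.one_mulVec]

theorem Good.mul {A B : Matrix chevE8.Idx chevE8.Idx K} (hA : Good A) (hB : Good B) : Good (A * B) where
  su u hu := by rw [← Matrix.mulVec_mulVec]; exact hA.su _ (hB.su u hu)
  zp u hu := by rw [← Matrix.mulVec_mulVec, hA.zp _ (hB.su u hu), hB.zp u hu]
  ker u hu j hj := by rw [← Matrix.mulVec_mulVec]; exact hA.ker _ (hB.su u hu) j (hB.ker u hu j hj)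
  q u hu j := by rw [← Matrix.mulVec_mulVec, hA.q _ (hB.su u hu), hB.q u hu]

theorem good_p (h3 : (3 : K) = 0) (j : Fin 4) (t : K) : Good (chevE8.x K (pI j) t) := by
  have key : ∀ u : chevE8.Idx → K, Su u → ∀ i, cp i (chevE8.x K (pI j) t *ᵥ u) = cp i u +
      (if j = i then ![-(t * al j u) - t ^ 2 * u (nx j), 0, t * u (nx j) * 2] else 0) := by
    intro u hu i
    rw [x_p hu, map_add, map_add, map_smul, map_smul, cp_ev_p, cp_hv, add_assoc]
    congr 1
    split_ifs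
    · funext k; fin_cases k <;> simp
    · simp
  refine ⟨fun u hu => ?_, fun u hu => ?_, fun u hu i hi => ?_, fun u hu i => ?_⟩
  · rw [x_p hu]
    exact (hu.add ((su_ev ⟨j, Or.inl rfl⟩).smul _)).add ((su_hv _).smul _)
  · rw [x_p hu, map_add, map_add, map_smul, map_smul, zp_ev, zp_hv h3, smul_zero, smul_zero, add_zero, add_zero]
  · rw [key u hu, hi, zero_add]
    split_ifs with h
    · subst h
      have e1 : al j u = 0 := by have := congrFun hi 2; rwa [cp_two] at this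
      have e2 : u (nx j) = 0 := by have := congrFun hi 1; rwa [cp_one] at this
      rw [e1, e2]
      funext k; fin_cases k <;> simp
    · rfl
  · rw [key u hu]
    split_ifs with h
    · subst h
      rw [cp_eq]
      simp only [Qf, Matrix.add_cons, Matrix.head_cons, Matrix.tail_cons, Matrix.empty_add_empty, Matrix.cons_val_zero,
        Matrix.cons_val_one, Matrix.cons_val]
      linear_combination (t * al j u * u (nx j) + t ^ 2 * u (nx j) ^ 2) * h3
    · rw [add_zero]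

theorem good_n (h3 : (3 : K) = 0) (j : Fin 4) (t : K) : Good (chevE8.x K (nI j) t) := by
  have key : ∀ u : chevE8.Idx → K, Su u → ∀ i, cp i (chevE8.x K (nI j) t *ᵥ u) = cp i u +
      (if j = i then ![0, t * al j u - t ^ 2 * u (px j), -(t * u (px j) * 2)] else 0) := by
    intro u hu i
    rw [x_n hu, map_sub, map_add, map_smul, map_smul, cp_ev_n, cp_hv, add_sub_assoc]
    congr 1
    split_ifs
    · funext k; fin_cases k <;> simp
    · simp
  refine ⟨fun u hu => ?_, fun u hu => ?_, fun u hu i hi => ?_, fun u hu i => ?_⟩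
  · rw [x_n hu, sub_eq_add_neg, ← neg_smul]
    exact (hu.add ((su_ev ⟨j, Or.inr rfl⟩).smul _)).add ((su_hv _).smul _)
  · rw [x_n hu, map_sub, map_add, map_smul, map_smul, zp_ev, zp_hv h3, smul_zero, smul_zero, add_zero, sub_zero]
  · rw [key u hu, hi, zero_add]
    split_ifs with h
    · subst h
      have e1 : al j u = 0 := by have := congrFun hi 2; rwa [cp_two] at this
      have e2 : u (px j) = 0 := by have := congrFun hi 0; rwa [cp_zero] at this
      rw [e1, e2]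
      funext k; fin_cases k <;> simp
    · rfl
  · rw [key u hu]
    split_ifs with h
    · subst h
      rw [cp_eq]
      simp only [Qf, Matrix.add_cons, Matrix.head_cons, Matrix.tail_cons, Matrix.empty_add_empty, Matrix.cons_val_zero,
        Matrix.cons_val_one, Matrix.cons_val]
      linear_combination (-(t * al j u * u (px j)) + t ^ 2 * u (px j) ^ 2) * h3
    · rw [add_zero]

/-- diagonal matrices -/
theorem good_diag {d : Fin chevE8.nroots → K} (hd : ∀ j, d ⟨pI j, pI_lt j⟩ * d ⟨nI j, nI_lt j⟩ = 1) :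
    Good (Matrix.diagonal (Sum.elim (fun _ : Fin chevE8.rank => (1 : K)) d)) := by
  have h1 : ∀ (u : chevE8.Idx → K) (i : Fin chevE8.rank),
      (Matrix.diagonal (Sum.elim (fun _ : Fin chevE8.rank => (1 : K)) d) *ᵥ u) (Sum.inl i) = u (Sum.inl i) := by
    intro u i
    rw [Matrix.mulVec_diagonal, Sum.elim_inl, one_mul]
  have h2 : ∀ (u : chevE8.Idx → K) (s : Fin chevE8.nroots),
      (Matrix.diagonal (Sum.elim (fun _ : Fin chevE8.rank => (1 : K)) d) *ᵥ u) (Sum.inr s) = d s * u (Sum.inr s) := by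
    intro u s
    rw [Matrix.mulVec_diagonal, Sum.elim_inr]
  have h3 : ∀ (u : chevE8.Idx → K) (j : Fin 4),
      al j (Matrix.diagonal (Sum.elim (fun _ : Fin chevE8.rank => (1 : K)) d) *ᵥ u) = al j u := by
    intro u j
    rw [al_apply, al_apply]
    exact Finset.sum_congr rfl fun i _ => by rw [h1]
  refine ⟨fun u hu => ?_, fun u hu => ?_, fun u hu i hi => ?_, fun u hu i => ?_⟩
  · intro s hs
    rw [h2] at hs
    exact hu s (right_ne_zero_of_mul hs)
  · funext k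
    rw [zp_apply, zp_apply]
    congr 1
    · exact h1 _ _
    · exact Finset.sum_congr rfl fun j _ => by rw [h3]
  · rw [cp_eq, h3]
    have e0 : u (px i) = 0 := by have := congrFun hi 0; rwa [cp_zero] at this
    have e1 : u (nx i) = 0 := by have := congrFun hi 1; rwa [cp_one] at this
    have e2 : al i u = 0 := by have := congrFun hi 2; rwa [cp_two] at this
    rw [e2]
    unfold px nx at *
    rw [h2, h2, e0, e1, mul_zero, mul_zero]
    funext k; fin_cases k <;> simp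
  · rw [cp_eq, cp_eq, h3]
    unfold px nx
    rw [h2, h2]
    simp only [Qf, Matrix.cons_val_zero, Matrix.cons_val_one, Matrix.cons_val]
    linear_combination (u (Sum.inr ⟨pI i, pI_lt i⟩) * u (Sum.inr ⟨nI i, nI_lt i⟩)) * hd i

/-! ### the kernel criterion -/

theorem fix_p {u : chevE8.Idx → K} (hu : Su u) {j : Fin 4} (hj : cp j u = 0) (t : K) : chevE8.x K (pI j) t *ᵥ u = u := by
  have e1 : al j u = 0 := by have := congrFun hj 2; rwa [cp_two] at this
  have e2 : u (nx j) = 0 := by have := congrFun hj 1; rwa [cp_one] at this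
  rw [x_p hu, e1, e2]
  simp

theorem fix_n {u : chevE8.Idx → K} (hu : Su u) {j : Fin 4} (hj : cp j u = 0) (t : K) : chevE8.x K (nI j) t *ᵥ u = u := by
  have e1 : al j u = 0 := by have := congrFun hj 2; rwa [cp_two] at this
  have e2 : u (px j) = 0 := by have := congrFun hj 0; rwa [cp_zero] at this
  rw [x_n hu, e1, e2]
  simp

theorem ker_of_fix {u : chevE8.Idx → K} (hu : Su u) {j : Fin 4} (h1 : chevE8.x K (pI j) 1 *ᵥ u = u)
    (h2 : chevE8.x K (nI j) 1 *ᵥ u = u) : cp j u = 0 := by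
  rw [x_p hu, add_assoc, add_eq_left] at h1
  rw [x_n hu, add_sub_assoc, add_eq_left] at h2
  have e1 : ev chevE8 K (pI j) (hx (hI j)) = 0 := rfl
  have e2 : hv chevE8 K (hI j).val (hx (hI j)) = 1 := if_pos rfl
  have e3 : ev chevE8 K (nI j) (hx (hI j)) = 0 := rfl
  have e4 : ev chevE8 K (pI j) (px j) = 1 := if_pos rfl
  have e5 : hv chevE8 K (hI j).val (px j) = 0 := rfl
  have h3 := congrFun h1 (hx (hI j))
  have h4 := congrFun h2 (hx (hI j))
  have h5 := congrFun h1 (px j)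
  simp only [Pi.add_apply, Pi.sub_apply, Pi.smul_apply, smul_eq_mul, e1, e2, e3, e4, e5, Pi.zero_apply, mul_zero,
    zero_add, mul_one, one_mul, one_pow, add_zero, zero_sub, neg_eq_zero] at h3 h4 h5
  rw [h3, sub_zero, neg_eq_zero] at h5
  rw [cp_eq, h3, h4, h5]
  funext k; fin_cases k <;> rfl

end Cfsg.Agent.H948.P3
end

-- part: H948/P3/Grp
section
/-!
# S5921, P3: the centraliser of `t`, and the Frobenius twist
-/

set_option autoImplicit false
set_option linter.unusedSectionVars false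
set_option maxRecDepth 100000

namespace Cfsg.Agent.H948.P3

open CoxeterSystem Cfsg Cfsg.Lie Cfsg.Lie.ChevalleyDatum
open Cfsg.Agent.ChevalleyStructure Cfsg.Agent.ChevalleyStructure.Elts Cfsg.Agent.ChevalleyStructure.CoxeterGeom
  Cfsg.Agent.ChevalleyStructure.CoxeterGeomTypes Cfsg.Agent.ChevalleyStructure.NPerm
  Cfsg.Agent.ChevalleyStructure.RootVec Cfsg.Agent.ChevalleyStructure.RootVecTab
open Cfsg.Agent.Tits.Roots Cfsg.Agent.Tits.Core Cfsg.Agent.Nodes Cfsg.Agent.Nodes.Reps Cfsg.Agent.Nodes.BNOf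
  Cfsg.Agent.Nodes.RGDChev Cfsg.Agent.Nodes.Bruhat Cfsg.Agent.Nodes.SubComb Cfsg.Agent.Nodes.Coroot
  Cfsg.Agent.Nodes.NormalForm
open Cfsg.Agent.KFacts.RgdField Cfsg.Agent.KFacts.RgdChevCoord Cfsg.Agent.BpExc.TorCent Cfsg.Agent.BpExc.TorChev
open Cfsg.Agent.GpExc.Field Cfsg.Agent.BpExc.Tow Cfsg.Agent.BpExc.TowChev Cfsg.Agent.BpExc.Fr
  Cfsg.Agent.BpExc.LangFr Cfsg.Agent.LangThm Cfsg.Agent.BpExc Cfsg.Agent.H129.TorusChar Cfsg.Agent.H129.TorusMain
open Cfsg.Agent.H720.TorusReal Cfsg.Agent.Nodes.Unique Cfsg.Agent.H897.T5Cent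
open Cfsg.Agent.BpExc.FamUntw Cfsg.Agent.BpExc.FamInst Cfsg.Agent.BpExc.FamField
open Cfsg.Agent.H942.E8Tab Cfsg.Agent.H942.E8Alc Cfsg.Agent.H942.CB
open Cfsg.Agent.H944.Tab Cfsg.Agent.H944.Kac
open Cfsg.Agent.H540.E8C (KK cX_of_vals)
open Matrix

instance kkch : CharP KK 3 := charP_of_injective_algebraMap (algebraMap (ZMod 3) KK).injective 3

theorem kk3 : (3 : KK) = 0 := by
  have := CharP.cast_eq_zero KK 3
  exact_mod_cast this

theorem lf : LocFin KK := locFin_of_isAlgebraic 3 KK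

/-- the system -/
theorem hNs : NSys CoxeterMatrix.E₈ (TT chevE8 KK) (nc e8T KK) := nsysT e8T lf 3

/-- the matrix of an element -/
abbrev mt (g : ↥(chevE8.group KK)) : Matrix chevE8.Idx chevE8.Idx KK := ((g : GL chevE8.Idx KK) : Matrix chevE8.Idx chevE8.Idx KK)

theorem mt_mul (a b : ↥(chevE8.group KK)) : mt (a * b) = mt a * mt b := by
  show (((a * b : ↥(chevE8.group KK)) : GL chevE8.Idx KK) : Matrix chevE8.Idx chevE8.Idx KK) = _
  rw [Subgroup.coe_mul, Units.val_mul]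

theorem mt_one : mt (1 : ↥(chevE8.group KK)) = 1 := rfl

/-! ### tables -/

theorem tab_zero : ∀ s : Fin chevE8.nroots, (40 : ℤ) ∣ fz (YZ V3) (vec chevE8 8 s.val) →
    ∃ j : Fin 4, s.val = pI j ∨ s.val = nI j := by (open scoped Cfsg.Agent.ChevFast.Lin in decide +kernel)

theorem tab_p : ∀ j : Fin 4, (40 : ℤ) ∣ fz (YZ V3) (vec chevE8 8 (pI j)) := by decide +kernel

theorem tab_n : ∀ j : Fin 4, (40 : ℤ) ∣ fz (YZ V3) (vec chevE8 8 (nI j)) := by decide +kernel

/-- the cycle -/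
def cy : Fin 4 → Fin 4 := ![1, 3, 0, 2]

theorem cy4 : ∀ j, cy (cy (cy (cy j))) = j := by decide

/-- the coordinate functionals -/
def el (i : ℕ) : List ℤ := (List.range 8).map fun m => if m = i then 1 else 0

theorem fz_el : ∀ (i : Fin 8) (x : Fin 8 → ℤ), fz (el i) x = x i := by
  intro i x
  unfold fz
  have h : ∀ i j : Fin 8, (el i).getD j 0 = if j = i then 1 else 0 := by decide
  simp only [h]
  rw [Finset.sum_eq_single i]
  · simp
  · intro b _ hb
    rw [if_neg hb, zero_mul]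
  · intro hi; exact absurd (Finset.mem_univ i) hi

theorem w3_lt : ∀ i ∈ w3, i < 8 := by decide +kernel

theorem rep_w3 (x : Fin 8 → ℤ) (i : Fin 8) : rep cs8 e8T.isCartan (word w3) x i = fz (actW w3 (el i)) x := by
  rw [fz_actW w3 w3_lt (by simp [el]), fz_el]

theorem tab_wp : ∀ (j : Fin 4) (i : Fin 8), fz (actW w3 (el i)) (vec chevE8 8 (pI j)) = vec chevE8 8 (pI (cy j)) i := by
  decide +kernel

theorem tab_wn : ∀ (j : Fin 4) (i : Fin 8), fz (actW w3 (el i)) (vec chevE8 8 (nI j)) = vec chevE8 8 (nI (cy j)) i := by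
  decide +kernel

theorem rep_p (j : Fin 4) : rep cs8 e8T.isCartan (word w3) (vec chevE8 8 (pI j)) = vec chevE8 8 (pI (cy j)) := by
  funext i
  rw [rep_w3, tab_wp]

theorem rep_n (j : Fin 4) : rep cs8 e8T.isCartan (word w3) (vec chevE8 8 (nI j)) = vec chevE8 8 (nI (cy j)) := by
  funext i
  rw [rep_w3, tab_wn]

/-! ### the centraliser of `t` -/

section Cent

variable {ζ : KK} (hζ : IsPrimitiveRoot ζ 40) {t : ↥(chevE8.group KK)} (htT : t ∈ TT chevE8 KK)
  (hX : ∀ a, cX e8T t a = ζ ^ fz (YZ V3) a)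

include hζ hX

theorem cX_one_iff (a : Fin 8 → ℤ) : cX e8T t a = 1 ↔ (40 : ℤ) ∣ fz (YZ V3) a := by
  rw [hX, hζ.zpow_eq_one_iff_dvd]
  rfl

include htT

theorem su_iff (u : chevE8.Idx → KK) : mt t *ᵥ u = u ↔ Su u := by
  rw [mt, TT_diag' e8T htT]
  constructor
  · intro h s hs
    have h1 := congrFun h (Sum.inr s)
    rw [Matrix.mulVec_diagonal, Sum.elim_inr] at h1
    have h2 : cX e8T t (vec chevE8 8 s) = 1 := by
      have h3 : cX e8T t (vec chevE8 8 s) * u (Sum.inr s) = 1 * u (Sum.inr s) := by rw [one_mul]; exact h1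
      exact mul_right_cancel₀ hs h3
    exact tab_zero s ((cX_one_iff hζ hX _).1 h2)
  · intro h
    funext i
    rw [Matrix.mulVec_diagonal]
    rcases i with i | s
    · rw [Sum.elim_inl, one_mul]
    · rw [Sum.elim_inr]
      by_cases h0 : u (Sum.inr s) = 0
      · rw [h0, mul_zero]
      · obtain ⟨j, hj | hj⟩ := h s h0
        · rw [hj, (cX_one_iff hζ hX _).2 (tab_p j), one_mul]
        · rw [hj, (cX_one_iff hζ hX _).2 (tab_n j), one_mul]

end Cent

/-- the good elements -/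
def GoodSub : Subgroup ↥(chevE8.group KK) where
  carrier := {g | Good (mt g) ∧ Good (mt g⁻¹)}
  one_mem' := ⟨by rw [mt_one]; exact Good.one, by rw [inv_one, mt_one]; exact Good.one⟩
  mul_mem' := fun {a b} ha hb => ⟨by rw [mt_mul]; exact ha.1.mul hb.1, by
    rw [_root_.mul_inv_rev, mt_mul]; exact hb.2.mul ha.2⟩
  inv_mem' := fun {a} ha => ⟨ha.2, by rw [inv_inv]; exact ha.1⟩

theorem mt_xc {s : ℕ} (hs : s < chevE8.nroots) (a : KK) : mt (xc e8T (vec chevE8 8 s) a) = chevE8.x KK s a := by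
  rw [mt, coe_xc e8T hs, coe_xG]

/-- the elements of the root groups -/
theorem mem_XX {s : ℕ} (hs : s < chevE8.nroots) {g : ↥(chevE8.group KK)} :
    g ∈ XX chevE8 8 KK (vec chevE8 8 s) ↔ ∃ a, xc e8T (vec chevE8 8 s) a = g :=
  ((coordsL (k := KK) e8T cs8 lf 3).coord _ ((isRoot_iff e8T cs8 _).2 ⟨s, hs, rfl⟩)).mem g

theorem XX_le_good {s : ℕ} (h : ∃ j : Fin 4, s = pI j ∨ s = nI j) : XX chevE8 8 KK (vec chevE8 8 s) ≤ GoodSub := by
  have hs : s < chevE8.nroots := by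
    obtain ⟨j, rfl | rfl⟩ := h
    · exact pI_lt j
    · exact nI_lt j
  have key : ∀ g ∈ XX chevE8 8 KK (vec chevE8 8 s), Good (mt g) := by
    intro g hg
    obtain ⟨a, rfl⟩ := (mem_XX hs).1 hg
    rw [mt_xc hs]
    obtain ⟨j, rfl | rfl⟩ := h
    · exact good_p kk3 j a
    · exact good_n kk3 j a
  exact fun g hg => ⟨key g hg, key _ (inv_mem hg)⟩

theorem TT_le_good : TT chevE8 KK ≤ GoodSub := by
  have key : ∀ g ∈ TT chevE8 KK, Good (mt g) := by
    intro g hg
    rw [mt, TT_diag' e8T hg]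
    refine good_diag fun j => ?_
    show cX e8T g (vec chevE8 8 (pI j)) * cX e8T g (vec chevE8 8 (nI j)) = 1
    have h1 : ∀ j : Fin 4, vec chevE8 8 (pI j) + vec chevE8 8 (nI j) = 0 := by decide +kernel
    rw [← (isMC_cX e8T hg).add, h1, (isMC_cX e8T hg).zero]
  exact fun g hg => ⟨key g hg, key _ (inv_mem hg)⟩

theorem con40 : Con e8T cs8 lf 3 40 :=
  con_of_frm' (p := 3) e8T cs8 lf frm8 invC_E8 (N := 40) (Nat.coprime_one_left 40) (by norm_num) (by norm_num)

/-- **the centraliser of `t` is good** -/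
theorem good_of_comm {ζ : KK} (hζ : IsPrimitiveRoot ζ 40) {t : ↥(chevE8.group KK)} (htT : t ∈ TT chevE8 KK)
    (hX : ∀ a, cX e8T t a = ζ ^ fz (YZ V3) a) (ht : t ^ 40 = 1) {g : ↥(chevE8.group KK)} (hg : g * t = t * g) :
    Good (mt g) := by
  obtain ⟨m, hm, s, hs, rfl⟩ := cent_form e8T cs8 lf 3 con40 htT ht hg
  have h1 : Cfsg.Agent.H795.SetCent.MMZ cs8 e8T.isCartan (XX chevE8 8 KK) (ch e8T) {t} ≤ GoodSub := by
    refine RGD.Sup_le fun a ha => ?_
    obtain ⟨s, hs, rfl⟩ := (isRoot_iff e8T cs8 a).1 ha.1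
    refine XX_le_good ?_
    have h2 := ha.2 t rfl
    rw [← cX_vec e8T htT hs, cX_one_iff hζ hX] at h2
    exact tab_zero ⟨s, hs⟩ h2
  exact (mul_mem (h1 hm) (TT_le_good hs)).1

/-! ### Frobenius -/

/-- Frobenius on vectors -/
noncomputable def Fv (u : chevE8.Idx → KK) : chevE8.Idx → KK := fun i => u i ^ 3

/-- Frobenius on the group -/
noncomputable abbrev sg : MulAut ↥(chevE8.group KK) := phi chevE8 KK 3 1

theorem frob_eq (a : KK) : frobenius KK 3 a = a ^ 3 := rfl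

theorem Fv_mt (g : ↥(chevE8.group KK)) (u : chevE8.Idx → KK) : Fv (mt g *ᵥ u) = mt (sg g) *ᵥ Fv u := by
  have h1 : mt (sg g) = (mt g).map (frobenius KK 3) := by
    show (((Agent.CpAut.RgdUntw.fld chevE8 (Cfsg.Agent.BpExc.FamField.frb KK 3 1) g : ↥(chevE8.group KK)) : GL chevE8.Idx KK) :
      Matrix chevE8.Idx chevE8.Idx KK) = _
    rw [Agent.CpAut.RgdUntw.fld_coe]
    ext i j
    rw [Matrix.map_apply, Matrix.map_apply, frob_eq]
    exact (Cfsg.Agent.BpExc.FamField.frb_apply KK 3 1 _).trans (by rw [pow_one])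
  rw [h1]
  funext i
  exact RingHom.map_mulVec (frobenius KK 3) (mt g) u i

theorem Fv_add (u v : chevE8.Idx → KK) : Fv (u + v) = Fv u + Fv v := by
  funext i
  exact map_add (frobenius KK 3) (u i) (v i)

theorem Fv_sub (u v : chevE8.Idx → KK) : Fv (u - v) = Fv u - Fv v := by
  funext i
  exact map_sub (frobenius KK 3) (u i) (v i)

theorem Fv_smul (c : KK) (u : chevE8.Idx → KK) : Fv (c • u) = c ^ 3 • Fv u := by
  funext i
  exact mul_pow c (u i) 3

theorem Fv_sum {ι : Type*} (s : Finset ι) (f : ι → chevE8.Idx → KK) : Fv (∑ i ∈ s, f i) = ∑ i ∈ s, Fv (f i) := by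
  classical
  induction s using Finset.induction_on with
  | empty =>
    rw [Finset.sum_empty, Finset.sum_empty]
    funext i
    exact zero_pow (by norm_num)
  | insert a s ha ih => rw [Finset.sum_insert ha, Finset.sum_insert ha, Fv_add, ih]

theorem su_Fv {u : chevE8.Idx → KK} (hu : Su u) : Su (Fv u) := by
  intro s hs
  exact hu s fun h0 => hs (by
    show u (Sum.inr s) ^ 3 = 0
    rw [h0]; exact zero_pow (by norm_num))

theorem al_Fv (j : Fin 4) (u : chevE8.Idx → KK) : al j (Fv u) = al j u ^ 3 := by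
  rw [al_apply, al_apply, ← frob_eq, map_sum]
  refine Finset.sum_congr rfl fun i _ => ?_
  rw [map_mul, map_intCast]
  rfl

theorem cp_Fv (j : Fin 4) (u : chevE8.Idx → KK) (k : Fin 3) : cp j (Fv u) k = cp j u k ^ 3 := by
  fin_cases k
  · rfl
  · rfl
  · exact al_Fv j u

/-! ### the twist -/

section Twist

variable {ζ : KK} (hζ : IsPrimitiveRoot ζ 40) {t : ↥(chevE8.group KK)} (htT : t ∈ TT chevE8 KK)
  (hX : ∀ a, cX e8T t a = ζ ^ fz (YZ V3) a) {n : ↥(chevE8.group KK)} (hn : Rp cs8 hNs (word w3) n)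
  (hnt : n * sg t * n⁻¹ = t)

include hζ htT hX hnt in
theorem tw_su {u : chevE8.Idx → KK} (hu : Su u) : Su (mt n *ᵥ Fv u) := by
  rw [← su_iff hζ htT hX] at hu ⊢
  have h1 : t * n = n * sg t := by
    have : n * sg t = (n * sg t * n⁻¹) * n := by group
    rw [this, hnt]
  rw [Matrix.mulVec_mulVec, ← mt_mul, h1, mt_mul, ← Matrix.mulVec_mulVec, ← Fv_mt, hu]

include hn in
theorem conj_p (j : Fin 4) : ∃ a, xc e8T (vec chevE8 8 (pI (cy j))) (1 : KK) * n = n * xc e8T (vec chevE8 8 (pI j)) a := by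
  have F := fr_conj e8T cs8 lf 3 hn
  have h1 : xc e8T (vec chevE8 8 (pI (cy j))) (1 : KK) ∈ XX chevE8 8 KK (vec chevE8 8 (pI (cy j))) :=
    (mem_XX (pI_lt _)).2 ⟨1, rfl⟩
  have h2 := F.map (vec chevE8 8 (pI j)) ((isRoot_iff e8T cs8 _).2 ⟨_, pI_lt j, rfl⟩)
    (n⁻¹ * xc e8T (vec chevE8 8 (pI (cy j))) (1 : KK) * n)
  rw [repAut_apply, rep_p] at h2
  have h3 : (MulAut.conj n) (n⁻¹ * xc e8T (vec chevE8 8 (pI (cy j))) (1 : KK) * n) =
      xc e8T (vec chevE8 8 (pI (cy j))) (1 : KK) := by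
    rw [MulAut.conj_apply]; group
  rw [h3] at h2
  obtain ⟨a, ha⟩ := (mem_XX (pI_lt j)).1 (h2.1 h1)
  exact ⟨a, by rw [ha]; group⟩

include hn in
theorem conj_n (j : Fin 4) : ∃ a, xc e8T (vec chevE8 8 (nI (cy j))) (1 : KK) * n = n * xc e8T (vec chevE8 8 (nI j)) a := by
  have F := fr_conj e8T cs8 lf 3 hn
  have h1 : xc e8T (vec chevE8 8 (nI (cy j))) (1 : KK) ∈ XX chevE8 8 KK (vec chevE8 8 (nI (cy j))) :=
    (mem_XX (nI_lt _)).2 ⟨1, rfl⟩
  have h2 := F.map (vec chevE8 8 (nI j)) ((isRoot_iff e8T cs8 _).2 ⟨_, nI_lt j, rfl⟩)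
    (n⁻¹ * xc e8T (vec chevE8 8 (nI (cy j))) (1 : KK) * n)
  rw [repAut_apply, rep_n] at h2
  have h3 : (MulAut.conj n) (n⁻¹ * xc e8T (vec chevE8 8 (nI (cy j))) (1 : KK) * n) =
      xc e8T (vec chevE8 8 (nI (cy j))) (1 : KK) := by
    rw [MulAut.conj_apply]; group
  rw [h3] at h2
  obtain ⟨a, ha⟩ := (mem_XX (nI_lt j)).1 (h2.1 h1)
  exact ⟨a, by rw [ha]; group⟩

include hζ htT hX hn hnt in
theorem tw_ker {u : chevE8.Idx → KK} (hu : Su u) {j : Fin 4} (hj : cp j u = 0) : cp (cy j) (mt n *ᵥ Fv u) = 0 := by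
  have hj' : cp j (Fv u) = 0 := by
    funext k
    rw [cp_Fv, hj]
    exact zero_pow (by norm_num)
  refine ker_of_fix (tw_su hζ htT hX hnt hu) ?_ ?_
  · obtain ⟨a, ha⟩ := conj_p hn j
    rw [← mt_xc (pI_lt _), Matrix.mulVec_mulVec, ← mt_mul, ha, mt_mul, ← Matrix.mulVec_mulVec, mt_xc (pI_lt j),
      fix_p (su_Fv hu) hj']
  · obtain ⟨a, ha⟩ := conj_n hn j
    rw [← mt_xc (nI_lt _), Matrix.mulVec_mulVec, ← mt_mul, ha, mt_mul, ← Matrix.mulVec_mulVec, mt_xc (nI_lt j),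
      fix_n (su_Fv hu) hj']

end Twist

end Cfsg.Agent.H948.P3
end

private theorem dce_b2238aed42c4 : _root_.True := by
  try have : _root_.True := by simp only [_root_.Cfsg.Agent.H948.P3.al.eq_1]
  try have : _root_.True := by simp only [_root_.Cfsg.Agent.H948.P3.mt.eq_1]
  try have : _root_.True := by simp only [_root_.Cfsg.Agent.H948.P3.Qf.eq_1]
  try have : _root_.True := by simp only [_root_.Cfsg.Agent.H948.P3.el.eq_1]
  exact _root_.True.intro
end
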